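import Mathlib
import Cfsg.Agent.Base

/-! Solvable groups with pairwise distinct class sizes: definitions and basic facts on rational groups. -/

set_option autoImplicit false

namespace H42.S3

open Subgroup

universe u

/-- Every element is conjugate to its generating powers. -/
def Rat (G : Type*) [Group G] : Prop := ∀ (x : G) (k : ℕ), k.Coprime (orderOf x) → IsConj x (x ^ k)

/-- Order of the centralizer of an element. -/
noncomputable abbrev cz {G : Type*} [Group G] (x : G) : ℕ := Nat.card (centralizer ({x} : Set G))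

/-- Elements with centralizers of equal order are conjugate. -/
def AH (G : Type*) [Group G] : Prop := ∀ x y : G, cz x = cz y → IsConj x y

/-- Sylow subgroups for primes at least five are normal. -/
def NS (G : Type*) [Group G] : Prop := ∀ s : ℕ, s.Prime → 5 ≤ s → ∀ P : Sylow s G, (P : Subgroup G).Normal

/-- Allowed centralizer orders. -/
def Alw (c : ℕ) : Prop := c ≠ 0 ∧ ∀ p : ℕ, p.Prime → 5 ≤ p → p ∣ c → p ^ 2 ∣ c ∧ (11 ≤ p → p ^ 4 ∣ c)

/-- The setting of a minimal counterexample to the normality of Sylow subgroups. -/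
structure AS (L N : Type*) [Group L] [AddCommGroup N] [DistribMulAction L N] (r p : ℕ) : Prop where
  solv : Group.IsSolvable L
  rat : Rat L
  ns : NS L
  hr : r.Prime
  hp : p.Prime
  five : 5 ≤ p
  ne : p ≠ r
  expN : ∀ n : N, r • n = 0
  faith : ∀ g : L, (∀ n : N, g • n = n) → g = 1
  rat2 : ∀ (n : N) (g : L) (k : ℕ), g • n = n → (orderOf g).Coprime r → k.Coprime (orderOf g) →
    ∃ c : L, c • n = n ∧ c * g * c⁻¹ = g ^ k
  dvd : p ∣ Nat.card L

/-- `V` is a normal elementary abelian `p`-subgroup centralized by all `p`-elements, `Y` a maximal centralizer of a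
nontrivial element of `V`, and `U = C_V(Y)`. -/
structure UU {L : Type*} [Group L] (p : ℕ) (V Y U : Subgroup L) : Prop where
  nV : V.Normal
  expV : ∀ v ∈ V, v ^ p = 1
  cen : ∀ (g : L) (k : ℕ), g ^ p ^ k = 1 → ∀ v ∈ V, Commute g v
  memU : ∀ u : L, u ∈ U ↔ u ∈ V ∧ ∀ y ∈ Y, Commute y u
  eqY : ∀ u ∈ U, u ≠ 1 → centralizer ({u} : Set L) = Y
  big : p ^ 2 ∣ Nat.card U

/-- The configuration used to count fixed points on `D`. -/
structure Cfg {L N : Type*} [Group L] [AddCommGroup N] [DistribMulAction L N] (r p : ℕ) (V Y U κ B : Subgroup L)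
    (z u : L) (D : AddSubgroup N) : Prop where
  uu : UU p V Y U
  κU : κ ≤ U
  idx : κ.relIndex U = p
  zU : z ∈ U
  zκ : z ∉ κ
  uκ : u ∈ κ
  u1 : u ≠ 1
  BY : B ≤ Y
  nt : D ≠ ⊥
  stU : ∀ n ∈ D, n ≠ 0 → ∀ x ∈ U, x • n = n ↔ x ∈ κ
  stY : ∀ n ∈ D, n ≠ 0 → ∀ y ∈ Y, y • n = n ↔ y ∈ B
  pres : ∀ g : L, g ∈ normalizer (U : Set L) → g ∈ normalizer (κ : Set L) → g ∈ normalizer (B : Set L) →
    ∀ n ∈ D, g • n ∈ D
  two : r = 2 → ¬ 2 ∣ B.relIndex Y

/-- `g` satisfies `1 + g + g ^ 2 = 0` on `W`. -/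
def Qd (W : Type*) {H : Type*} [Group H] [AddCommGroup W] [DistribMulAction H W] (g : H) : Prop :=
  ∀ w : W, w + g • w + g • g • w = 0

/-- A rational solvable `5'`-group with a faithful module in characteristic five on which every vector is conjugate
to its double. -/
structure M5 (H W : Type*) [Group H] [AddCommGroup W] [DistribMulAction H W] : Prop where
  solv : Group.IsSolvable H
  rat : Rat H
  cop : ¬ 5 ∣ Nat.card H
  five : ∀ w : W, 5 • w = 0
  faith : ∀ g : H, (∀ w : W, g • w = w) → g = 1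
  nt : ∃ w : W, w ≠ 0
  eig : ∀ w : W, ∃ h : H, h • w = 2 • w

/-- `t * y` is a self-centralizing element of order six. -/
structure Six {H : Type*} [Group H] (y t : H) : Prop where
  oy : orderOf y = 3
  ot : orderOf t = 2
  comm : Commute t y
  cen : ∀ g : H, Commute g t → Commute g y → g ∈ zpowers (t * y)

/-- The structure of the centralizer of `y`. -/
structure CY {H : Type*} [Group H] (y t : H) (O : Subgroup H) : Prop where
  p3 : IsPGroup 3 O
  mem : y ∈ O
  cent : ∀ g : H, Commute g y ↔ g ∈ O ∨ g * t ∈ O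
  inv : ∀ g : H, g * t ∈ O → ∀ a ∈ O, g * a * g⁻¹ * a ∈ zpowers y
  card : cz y = 2 * Nat.card O

variable {G : Type*} [Group G]

theorem mem_cz {x g : G} : g ∈ centralizer ({x} : Set G) ↔ Commute g x := mem_centralizer_singleton_iff

theorem cz_conj {x y : G} (h : IsConj x y) : cz x = cz y := by
  obtain ⟨c, rfl⟩ := isConj_iff.1 h
  refine Nat.card_congr ⟨fun g => ⟨c * g * c⁻¹, ?_⟩, fun g => ⟨c⁻¹ * g * c, ?_⟩, fun g => by ext; simp [mul_assoc],
    fun g => by ext; simp [mul_assoc]⟩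
  · have := (mem_cz.1 g.2).eq
    rw [mem_cz, Commute, SemiconjBy]
    calc c * g * c⁻¹ * (c * x * c⁻¹) = c * (g * x) * c⁻¹ := by group
      _ = _ := by rw [this]; group
  · have := (mem_cz.1 g.2).eq
    rw [mem_cz, Commute, SemiconjBy]
    calc c⁻¹ * g * c * x = c⁻¹ * (g * (c * x * c⁻¹)) * c := by group
      _ = _ := by rw [this]; group

/-- a number congruent to `k` modulo `n` and prime to `m` -/
theorem exists_coprime {k n : ℕ} (hn : n ≠ 0) (h : k.Coprime n) {m : ℕ} (hm : m ≠ 0) :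
    ∃ l : ℕ, l ≡ k [MOD n] ∧ l.Coprime m := by
  have : NeZero n := ⟨hn⟩
  obtain ⟨q, hq, hp, he⟩ := Nat.forall_exists_prime_gt_and_eq_mod (q := n) (a := (k : ZMod n))
    ((ZMod.isUnit_iff_coprime k n).2 h) m
  exact ⟨q, (ZMod.natCast_eq_natCast_iff _ _ _).1 he, (Nat.Prime.coprime_iff_not_dvd hp).2
      (Nat.not_dvd_of_pos_of_lt (Nat.pos_of_ne_zero hm) hq)⟩

variable [Finite G]

theorem ord_ne (x : G) : orderOf x ≠ 0 := (orderOf_pos x).ne'

theorem AH.rat (h : AH G) : Rat G := by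
  intro x k hk
  refine h _ _ ?_
  obtain ⟨m, hm⟩ := exists_pow_eq_self_of_coprime (x := x) hk
  have : centralizer ({x} : Set G) = centralizer ({x ^ k} : Set G) := by
    ext g
    rw [mem_cz, mem_cz]
    exact ⟨fun h => h.pow_right k, fun h => hm ▸ h.pow_right m⟩
  rw [cz, this]

theorem Rat.map (h : Rat G) {L : Type*} [Group L] (f : G →* L) (hf : Function.Surjective f) : Rat L := by
  intro y k hk
  obtain ⟨x, rfl⟩ := hf y
  have : Finite L := Finite.of_surjective f hf
  obtain ⟨l, hl, hc⟩ := exists_coprime (ord_ne (f x)) hk (ord_ne x)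
  have := f.map_isConj (h x l hc)
  rwa [map_pow, pow_eq_pow_iff_modEq.2 hl] at this

theorem Rat.quot (h : Rat G) (N : Subgroup G) [N.Normal] : Rat (G ⧸ N) :=
  h.map (QuotientGroup.mk' N) (QuotientGroup.mk'_surjective N)

/-- simultaneous powers of commuting elements of coprime orders -/
theorem Rat.two (h : Rat G) {x y : G} (hxy : Commute x y) (hc : (orderOf x).Coprime (orderOf y)) {j k : ℕ}
    (hj : j.Coprime (orderOf x)) (hk : k.Coprime (orderOf y)) :
    ∃ c : G, c * x * c⁻¹ = x ^ j ∧ c * y * c⁻¹ = y ^ k := by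
  obtain ⟨l, hl1, hl2⟩ := Nat.chineseRemainder hc j k
  have hl : l.Coprime (orderOf (x * y)) := by
    rw [hxy.orderOf_mul_eq_mul_orderOf_of_coprime hc]
    exact Nat.Coprime.mul_right (by unfold Nat.Coprime; rw [hl1.gcd_eq]; exact hj)
      (by unfold Nat.Coprime; rw [hl2.gcd_eq]; exact hk)
  obtain ⟨c, hcc⟩ := isConj_iff.1 (h _ l hl)
  rw [hxy.mul_pow, pow_eq_pow_iff_modEq.2 hl1, pow_eq_pow_iff_modEq.2 hl2] at hcc
  have key : ∀ e : ℕ, c * (x ^ e * y ^ e) * c⁻¹ = (x ^ e) ^ j * (y ^ e) ^ k := fun e => by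
    rw [← hxy.mul_pow, ← conj_pow, hcc, (hxy.pow_pow j k).mul_pow, ← pow_mul, ← pow_mul, ← pow_mul, ← pow_mul,
      mul_comm j, mul_comm k]
  obtain ⟨e, he1, he2⟩ := Nat.chineseRemainder hc 1 0
  obtain ⟨f, hf1, hf2⟩ := Nat.chineseRemainder hc 0 1
  have h1 := key e
  have h2 := key f
  rw [pow_eq_pow_iff_modEq.2 he1, pow_eq_pow_iff_modEq.2 he2] at h1
  rw [pow_eq_pow_iff_modEq.2 hf1, pow_eq_pow_iff_modEq.2 hf2] at h2
  exact ⟨c, by simpa using h1, by simpa using h2⟩

theorem pow_pred_eq_inv (x : G) : x ^ (orderOf x - 1) = x⁻¹ := by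
  rw [eq_inv_iff_mul_eq_one, ← pow_succ, Nat.sub_add_cancel (orderOf_pos x), pow_orderOf_eq_one]

theorem coprime_pred (x : G) : (orderOf x - 1).Coprime (orderOf x) := by
  have := orderOf_pos x
  obtain ⟨n, hn⟩ : ∃ n, orderOf x = n + 1 := ⟨orderOf x - 1, by omega⟩
  rw [hn, Nat.add_sub_cancel]
  exact Nat.coprime_self_add_right.2 (Nat.coprime_one_right n)

theorem Rat.real (h : Rat G) (x : G) : ∃ c : G, c * x * c⁻¹ = x⁻¹ := by
  have := isConj_iff.1 (h x _ (coprime_pred x))
  rwa [pow_pred_eq_inv] at this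

/-- invert `x` and centralize `y` -/
theorem Rat.two_inv (h : Rat G) {x y : G} (hxy : Commute x y) (hc : (orderOf x).Coprime (orderOf y)) :
    ∃ c : G, c * x * c⁻¹ = x⁻¹ ∧ c * y * c⁻¹ = y := by
  have := h.two hxy hc (coprime_pred x) (Nat.coprime_one_left _)
  rwa [pow_pred_eq_inv, pow_one] at this

theorem Rat.cz_mul_totient_dvd (h : Rat G) (x : G) : cz x * (orderOf x).totient ∣ Nat.card G := by
  let f := (zpowers x).normalizerMonoidHom
  have hs : Function.Surjective f := by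
    intro α
    obtain ⟨k, hk⟩ : ∃ k : ℕ, x ^ k = (α ⟨x, mem_zpowers x⟩ : G) :=
      (mem_powers_iff_mem_zpowers.2 (α ⟨x, mem_zpowers x⟩).2)
    have ho : orderOf (x ^ k) = orderOf x := by
      rw [hk, Subgroup.orderOf_coe, MulEquiv.orderOf_eq, ← Subgroup.orderOf_coe]
    have hco : k.Coprime (orderOf x) := by
      have h1 := orderOf_pow' x (n := k)
      by_cases k0 : k = 0
      · subst k0
        rw [pow_zero, orderOf_one] at ho
        rw [← ho]; exact Nat.coprime_one_right _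
      rw [h1 k0] at ho
      rw [Nat.coprime_comm]
      exact (Nat.div_eq_self.1 ho).resolve_left (ord_ne x)
    obtain ⟨c, hc⟩ := isConj_iff.1 (h x k hco)
    have hcn : c ∈ normalizer (zpowers x : Set G) := by
      refine mem_normalizer_fintype ?_
      rintro _ ⟨i, rfl⟩
      rw [← conj_zpow, hc]
      exact zpow_mem (pow_mem (mem_zpowers x) k) i
    refine ⟨⟨c, hcn⟩, MulEquiv.toMonoidHom_injective (MonoidHom.eq_of_eqOn_dense (s := {⟨x, mem_zpowers x⟩}) ?_ ?_)⟩
    · rw [← zpowers_eq_closure, eq_top_iff]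
      rintro ⟨_, i, rfl⟩ _
      exact ⟨i, Subtype.ext (by simp)⟩
    · rintro _ rfl
      exact Subtype.ext (hc.trans hk)
  have h1 : Nat.card f.ker * f.ker.index = Nat.card (normalizer (zpowers x : Set G)) := f.ker.card_mul_index
  rw [index_ker, f.range_eq_top.2 hs, card_top, IsCyclic.card_mulAut, Nat.card_zpowers,
    normalizerMonoidHom_ker, Nat.card_congr (subgroupOfEquivOfLe (centralizer_le_normalizer _)).toEquiv,
    zpowers_eq_closure, centralizer_closure] at h1
  rw [cz, h1]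
  exact card_subgroup_dvd_card _

theorem ord_dvd_cz (x : G) : orderOf x ∣ cz x := by
  rw [← Nat.card_zpowers]
  exact card_dvd_of_le (by rw [zpowers_le, mem_cz])

theorem Rat.mul_totient_dvd (h : Rat G) (x : G) : orderOf x * (orderOf x).totient ∣ Nat.card G :=
  (Nat.mul_dvd_mul_right (ord_dvd_cz x) _).trans (h.cz_mul_totient_dvd x)

theorem cz_dvd (x : G) : cz x ∣ Nat.card G := card_subgroup_dvd_card _

theorem cz_ne (x : G) : cz x ≠ 0 := Nat.card_pos.ne'

theorem Rat.two_mul_cz_dvd (h : Rat G) {x : G} (hx : x ^ 2 ≠ 1) : 2 * cz x ∣ Nat.card G := by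
  refine Dvd.dvd.trans ?_ (h.cz_mul_totient_dvd x)
  rw [mul_comm]
  refine Nat.mul_dvd_mul_left _ (Nat.totient_even ?_).two_dvd
  by_contra hl
  have := orderOf_pos x
  refine hx (orderOf_dvd_iff_pow_eq_one.1 ?_)
  have h12 : orderOf x = 1 ∨ orderOf x = 2 := by omega
  rcases h12 with h | h <;> simp [h]

/-- centralizers do not grow in quotients -/
theorem cz_map_le {L : Type*} [Group L] (f : G →* L) (hf : Function.Surjective f) (x : G) : cz (f x) ≤ cz x := by
  let D := (centralizer ({f x} : Set L)).comap f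
  have hk : f.ker ≤ D := fun g hg => by
    show f g ∈ centralizer _
    rw [(MonoidHom.mem_ker).1 hg]; exact one_mem _
  have h1 : Nat.card D = cz (f x) * Nat.card f.ker := by
    have e1 := D.card_mul_index
    have e2 := (centralizer ({f x} : Set L)).card_mul_index
    have e3 := f.ker.card_mul_index
    rw [index_ker, f.range_eq_top.2 hf, card_top] at e3
    rw [index_comap_of_surjective _ hf, ← e3, ← e2] at e1
    have : Finite L := Finite.of_surjective f hf
    refine Nat.eq_of_mul_eq_mul_right (Nat.pos_of_ne_zero (centralizer ({f x} : Set L)).index_ne_zero_of_finite) ?_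
    rw [e1, cz]; ring
  let C := (centralizer ({x} : Set G)).subgroupOf D
  have h2 : C.index ≤ Nat.card f.ker := by
    refine Nat.card_le_card_of_injective (fun q : D ⧸ C => Quotient.liftOn' q
      (fun d => (⟨d * x * (d : G)⁻¹ * x⁻¹, ?_⟩ : f.ker)) ?_) ?_
    · have : Commute (f d) (f x) := mem_cz.1 d.2
      rw [MonoidHom.mem_ker, map_mul, map_mul, map_mul, this.eq, map_inv, map_inv]; group
    · intro a b hab
      have hab' : a⁻¹ * b ∈ C := QuotientGroup.leftRel_apply.1 hab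
      have : Commute ((a : G)⁻¹ * b) x := mem_cz.1 (mem_subgroupOf.1 hab')
      refine Subtype.ext ?_
      calc (a : G) * x * (a : G)⁻¹ * x⁻¹ = a * (x * ((a : G)⁻¹ * b)) * (b : G)⁻¹ * x⁻¹ := by group
        _ = b * x * (b : G)⁻¹ * x⁻¹ := by rw [← this.eq]; group
    · intro a b
      refine Quotient.inductionOn₂' a b fun a b hab => Quotient.sound' (QuotientGroup.leftRel_apply.2 ?_)
      have : (a : G) * x * (a : G)⁻¹ * x⁻¹ = b * x * (b : G)⁻¹ * x⁻¹ := congrArg Subtype.val hab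
      refine mem_subgroupOf.2 (mem_cz.2 ?_)
      show (a : G)⁻¹ * b * x = x * ((a : G)⁻¹ * b)
      calc (a : G)⁻¹ * b * x = (a : G)⁻¹ * (b * x * (b : G)⁻¹ * x⁻¹) * x * b := by group
        _ = _ := by rw [← this]; group
  have h3 : Nat.card C ≤ cz x := Nat.card_le_card_of_injective
    (fun c : C => (⟨c.1.1, mem_subgroupOf.1 c.2⟩ : centralizer ({x} : Set G)))
    fun a b h => Subtype.ext (Subtype.ext (by simpa using h))
  have h4 := C.card_mul_index
  refine Nat.le_of_mul_le_mul_right ?_ (Nat.card_pos (α := f.ker))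
  rw [← h1, ← h4]
  exact Nat.mul_le_mul h3 h2

theorem exists_prim {p : ℕ} (hp : p.Prime) : ∃ l : ℕ, orderOf (l : ZMod p) = p - 1 ∧ l.Coprime p := by
  have := Fact.mk hp
  obtain ⟨g, hg⟩ := IsCyclic.exists_ofOrder_eq_natCard (α := (ZMod p)ˣ)
  refine ⟨(g : ZMod p).val, ?_, ZMod.val_coe_unit_coprime g⟩
  rw [ZMod.natCast_zmod_val, orderOf_units, hg, Nat.card_eq_fintype_card, ZMod.card_units]

/-- `p`-part and `p'`-part of an element -/
theorem parts (g : G) {p : ℕ} (hp : p.Prime) : 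
    ∃ (a b : G) (k : ℕ), (∃ i : ℕ, g ^ i = a) ∧ (∃ j : ℕ, g ^ j = b) ∧ g = a * b ∧
    Commute a b ∧ a ^ p ^ k = 1 ∧ (orderOf b).Coprime p := by
  obtain ⟨k, m, hm, hn⟩ := Nat.exists_eq_pow_mul_and_not_dvd (ord_ne g) p hp.ne_one
  have hc : (p ^ k).Coprime m := ((Nat.Prime.coprime_iff_not_dvd hp).2 hm).pow_left k
  obtain ⟨e, he1, he2⟩ := Nat.chineseRemainder hc 1 0
  obtain ⟨f, hf1, hf2⟩ := Nat.chineseRemainder hc 0 1
  refine ⟨g ^ e, g ^ f, k, ⟨e, rfl⟩, ⟨f, rfl⟩, ?_, (Commute.refl g).pow_pow e f, ?_, ?_⟩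
  · rw [← pow_add]
    nth_rewrite 1 [← pow_one g]
    rw [pow_eq_pow_iff_modEq, hn]
    exact ((Nat.modEq_and_modEq_iff_modEq_mul hc).1 ⟨by simpa using he1.add hf1, by simpa using he2.add hf2⟩).symm
  · rw [← pow_mul, ← orderOf_dvd_iff_pow_eq_one, hn, mul_comm]
    exact Nat.mul_dvd_mul_right ((Nat.modEq_zero_iff_dvd).1 he2) _
  · refine Nat.Coprime.coprime_dvd_left ?_ ((Nat.Prime.coprime_iff_not_dvd hp).2 hm).symm
    rw [orderOf_dvd_iff_pow_eq_one, ← pow_mul, ← orderOf_dvd_iff_pow_eq_one, hn]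
    exact Nat.mul_dvd_mul_right ((Nat.modEq_zero_iff_dvd).1 hf1) _

omit [Finite G] in
theorem AS.inj {L N : Type*} [Group L] [AddCommGroup N] [DistribMulAction L N] {r p : ℕ} (h : AS L N r p) (n : N)
    (hn : p • n = 0) : n = 0 := by
  have h1 := addOrderOf_dvd_of_nsmul_eq_zero hn
  have h2 := addOrderOf_dvd_of_nsmul_eq_zero (h.expN n)
  exact AddMonoid.addOrderOf_eq_one_iff.1
    (Nat.eq_one_of_dvd_coprimes ((Nat.coprime_primes h.hp h.hr).2 h.ne) h1 h2)

/-- an element inverted by an element of odd order has square one -/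
theorem sq_of_inv {g y : G} (hg : Odd (orderOf g)) (h : g * y * g⁻¹ = y⁻¹) : y ^ 2 = 1 := by
  obtain ⟨k, hk⟩ := hg
  have h2 : Commute (g ^ 2) y := by
    have : g ^ 2 * y * (g ^ 2)⁻¹ = y := by
      calc g ^ 2 * y * (g ^ 2)⁻¹ = g * (g * y * g⁻¹) * g⁻¹ := by rw [pow_two]; group
        _ = (g * y * g⁻¹)⁻¹ := by nth_rewrite 1 [h]; group
        _ = y := by rw [h, inv_inv]
    exact mul_inv_eq_iff_eq_mul.1 this
  have h3 : Commute g y := by
    have := h2.pow_left (k + 1)
    rwa [← pow_mul, show 2 * (k + 1) = orderOf g + 1 by omega, pow_succ, pow_orderOf_eq_one, one_mul] at this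
  rw [h3.eq, mul_inv_cancel_right] at h
  rw [pow_two]
  exact mul_eq_one_iff_eq_inv.2 h

omit [Finite G] in
/-- The faithful action of `G / C_G(N)` on an abelian normal subgroup, written additively. -/
theorem bridge {G : Type u} [Group G] [Finite G] (N : Subgroup G) [N.Normal]
    (hN : ∀ a ∈ N, ∀ b ∈ N, Commute a b) :
    ∃ (L W : Type u) (_ : Group L) (_ : Finite L) (_ : AddCommGroup W) (_ : Finite W) (_ : DistribMulAction L W)
      (π : G →* L) (e : W → G), Function.Surjective π ∧ (∀ g, π g = 1 ↔ ∀ a ∈ N, Commute g a) ∧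
      (∀ l : L, (∀ w : W, l • w = w) → l = 1) ∧ Function.Injective e ∧ (∀ a, a ∈ N ↔ ∃ w, e w = a) ∧ e 0 = 1 ∧
      (∀ v w, e (v + w) = e v * e w) ∧ (∀ (k : ℕ) w, e (k • w) = e w ^ k) ∧ ∀ g w, e (π g • w) = g * e w * g⁻¹ := by
  letI : CommGroup N := { (inferInstance : Group N) with mul_comm := fun a b => Subtype.ext (hN _ a.2 _ b.2).eq }
  let f : G →* MulAut N := MulAut.conjNormal
  letI : DistribMulAction f.range (Additive N) :=
    { smul := fun l w => Additive.ofMul ((l : MulAut N) w.toMul)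
      one_smul := fun w => rfl
      mul_smul := fun l m w => rfl
      smul_zero := fun l => congrArg Additive.ofMul (map_one (l : MulAut N))
      smul_add := fun l v w => congrArg Additive.ofMul (map_mul (l : MulAut N) v.toMul w.toMul) }
  refine ⟨f.range, Additive N, inferInstance, Finite.of_surjective _ f.rangeRestrict_surjective, inferInstance,
    inferInstance, inferInstance, f.rangeRestrict, fun w => (w.toMul : N), f.rangeRestrict_surjective, fun g => ?_,
    fun l hl => ?_, fun v w h => Additive.toMul.injective (Subtype.ext h),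
    fun a => ⟨fun h => ⟨Additive.ofMul ⟨a, h⟩, rfl⟩, fun ⟨w, h⟩ => h ▸ w.toMul.2⟩, rfl, fun _ _ => rfl,
    fun k w => by simp, fun g w => rfl⟩
  · rw [Subtype.ext_iff, MulEquiv.ext_iff]
    refine ⟨fun h a ha => ?_, fun h a => Subtype.ext ?_⟩
    · have := congrArg Subtype.val (h ⟨a, ha⟩)
      exact mul_inv_eq_iff_eq_mul.1 this
    · exact mul_inv_eq_iff_eq_mul.2 (h a a.2).eq
  · exact Subtype.ext (MulEquiv.ext fun a => congrArg Additive.toMul (hl (Additive.ofMul a)))

end H42.S3
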